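import Cfsg.Agent.QTNorm.SporM22S
set_option linter.all false

/-!
# Sylow 2-subgroups of `M23` are self-normalising (helper868)

The Sylow 2-subgroup `T` of `M22` is one of `M23`; same proof as `QTNorm.selfN_M22` (helper26).
-/

set_option autoImplicit false

namespace Cfsg.Agent.H868

open Cfsg Subgroup Cfsg.Agent.QTNorm

open Cfsg.Agent.Golay.Orbit Cfsg.Agent.Schreier.SylMTwentyTwo

theorem selfN_M23 : SelfN Spor.M23 := by
  have hfact : Fact (Nat.Prime 2) := ⟨Nat.prime_two⟩
  have hc := Cfsg.Agent.SporadicA.MathieuRecog.card_M23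
  have hle : T ≤ Spor.M23 := T_le.trans inf_le_left
  have hcT : Nat.card (T.subgroupOf Spor.M23) = 128 := by
    rw [Nat.card_congr (subgroupOfEquivOfLe hle).toEquiv, card_T]
  have hp : IsPGroup 2 (T.subgroupOf Spor.M23) := isPGroup_T.comap_of_injective _ (subtype_injective _)
  have hi : ¬ 2 ∣ (T.subgroupOf Spor.M23).index := by
    have h1 := card_mul_index (T.subgroupOf Spor.M23)
    rw [hcT, hc] at h1
    omega
  refine selfN_of_odd (hp.toSylow hi) fun x hx ho => ?_
  have hx' : x ∈ normalizer ((T.subgroupOf Spor.M23 : Subgroup Spor.M23) : Set Spor.M23) := hx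
  have hR := Omega.Kond.RowM22.rigid.congr (subgroupOfEquivOfLe hle).symm
  have h1 := mem_centralizer_of_odd (T.subgroupOf Spor.M23) hR hx' ho
  apply Subtype.ext
  refine cent_T (MulAction.mem_stabilizer_iff.1 x.2.2) (fun t ht => ?_) (by rw [orderOf_coe]; exact ho)
  have h2 := mem_centralizer_iff.1 h1 ⟨t, hle ht⟩ ht
  exact (congrArg Subtype.val h2).symm

end Cfsg.Agent.H868
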