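import Cfsg.Agent.H537.CopDefs
import Cfsg.Agent.H19.Odd.HeEl7
import Cfsg.Agent.CpAut.SmallP.TwoPart
import Cfsg.Agent.Prune
set_option linter.all false
prune_inst 0x7f00000000000000000000000000000000000000000000000000000000000000000000000000000000000000000000000000000000000000000000000000000000000000000000000000000000000000003fffffffffffffffffffffffffffbeffbdffffffff
open scoped Cfsg.Agent.FastGrp

/-!
# The Held group: bounds for centralizers (task 1972, S4175 / S4174)
-/

set_option autoImplicit false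

namespace Cfsg.Agent.H868.CopHe

open Subgroup Cfsg.Agent.H537.Cop

/-- the arithmetic -/
theorem arith {N : ℕ} (hpos : 0 < N) (h3 : 3 ∣ N) (hd : 7 ^ (2 + 1) ∣ N) (h : N ≤ 504 ∨ 8 ∣ N ∧ N ≤ 7560) : False := by
  have h1029 : 3 * 343 ∣ N := Nat.Coprime.mul_dvd_of_dvd_of_dvd (by norm_num) h3 (by simpa using hd)
  obtain ⟨k, rfl⟩ := h1029
  rcases h with h | ⟨h8, h⟩
  · have : 0 < k := Nat.pos_of_mul_pos_left hpos
    omega
  · have h2 : 8 ∣ k := (Nat.Coprime.dvd_mul_left (by norm_num)).1 h8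
    have : 0 < k := Nat.pos_of_mul_pos_left hpos
    omega

/-- `|C(b)|` for `b` of order 3 is not divisible by `7 ^ 3` -/
theorem cb_three_seven : CB 3 7 2 Cfsg.Spor.He := by
  intro b hb hd
  have hfin : Finite Cfsg.Spor.He := Cfsg.Agent.FixBN.HeStab.finite_he
  have h3 : 3 ∣ Nat.card ↥(centralizer ({b} : Set Cfsg.Spor.He)) := by
    have h1 := orderOf_dvd_natCard (⟨b, mem_centralizer_singleton_iff.2 rfl⟩ : centralizer ({b} : Set Cfsg.Spor.He))
    rwa [Subgroup.orderOf_mk, hb] at h1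
  exact arith Nat.card_pos h3 hd (Cfsg.Agent.H19.Odd.HeEl.three hb)

/-- elements of order 5 and 7 do not commute -/
theorem ne_five_seven (x y : Cfsg.Spor.He) (hx : orderOf x = 5) (hy : orderOf y = 7) : x * y ≠ y * x :=
  fun h => Cfsg.Agent.H19.Odd.HeEl.five hx hy h.symm

theorem cb_seven_five : CB 7 5 0 Cfsg.Spor.He := by
  have hfin : Finite Cfsg.Spor.He := Cfsg.Agent.FixBN.HeStab.finite_he
  exact CB.of_ne (by norm_num) fun x y hx hy h => ne_five_seven y x hy hx h.symm

/-- `|C(x)|` for `x` of order 7 is not divisible by 16 -/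
theorem cb_seven_two : CB 7 2 3 Cfsg.Spor.He := by
  intro x hx hd
  exact Cfsg.Agent.CpAut.SmallP.He.not_sixteen_seven (X := Cfsg.Spor.He) ⟨MulEquiv.refl _⟩ hx (by simpa using hd)

end Cfsg.Agent.H868.CopHe
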