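import Cfsg.Agent.Foote.Inv
import Cfsg.Agent.Foote.Bridge
import Cfsg.Agent.ClosedTwo.Alt
import Cfsg.Agent.KFacts.M24Two.Syl
import Cfsg.Agent.SporadicA.OctadFix
import Cfsg.Agent.S1554
import Cfsg.Agent.S0360
import Cfsg.Agent.FastGrp
import Cfsg.Agent.Prune
set_option linter.all false
prune_inst 0x7f00000000000000000000000000000000000000000000000000000000000000000000000000000000000000000000000000000000000000000000000000000000000000000000000000000000000000003fffffffffffffffffffffffffffbeffbdffffffff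
open scoped Cfsg.Agent.FastGrp

/-!
# Strongly closed 2-subgroups of `M24` (helper868)

The proof of helper29 (`Foote.Row.MTwentyFour` in `ClosedRed.Inst`), with a smaller import closure.
-/

set_option autoImplicit false
set_option linter.style.haveILetI false

namespace Cfsg.Agent.H868.ClosedM24

open Cfsg.Agent.Foote Cfsg.Agent.TwoFusion.ClosedFam

open Subgroup Cfsg Cfsg.Agent.SporadicA Cfsg.Agent.SporadicA.OctadFix Cfsg.Agent.SporadicA.OctadStab
open scoped Pointwise

theorem index_stab {O : Finset GolayPt} (hO : O ∈ octads) : (MulAction.stabilizer (↥M24) O).index = 759 := by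
  rw [MulAction.index_stabilizer, ← Cfsg.Agent.S0360.result]
  congr 1
  ext o
  constructor
  · rintro ⟨g, rfl⟩
    exact (GolayPerm.smul_mem_octads g.2).2 hO
  · intro ho
    obtain ⟨g, hg, hgO⟩ := exists_smul_eq_oct0 hO
    obtain ⟨k, hk, hko⟩ := exists_smul_eq_oct0 ho
    refine ⟨⟨k⁻¹ * g, M24.mul_mem (M24.inv_mem hk) hg⟩, ?_⟩
    show (k⁻¹ * g) • O = o
    rw [mul_smul, hgO, ← hko, inv_smul_smul]

theorem exists_not_mem {O : Finset GolayPt} (hO : O ∈ octads) : ∃ p : GolayPt, p ∉ O := by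
  by_contra hcon
  push Not at hcon
  have h1 : O = Finset.univ := Finset.eq_univ_iff_forall.2 hcon
  have h2 := GolayBase.octad_card hO
  rw [h1, Finset.card_univ] at h2
  revert h2
  decide +kernel

/-- the involutions with a fixed point are in every nontrivial family -/
theorem mem_of_fix {𝒜 : Set M24} (h : TwoFusion.ClosedFam.IsClosedFam 𝒜) (ht : ¬ Triv 𝒜) {u : M24} (hu : u * u = 1)
    {p : GolayPt} (hp : u • p = p) : u ∈ 𝒜 := by
  by_cases hu1 : u = 1
  · rw [hu1]; exact h.one_mem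
  obtain ⟨S, hzS, hzc, hZ⟩ := KFacts.M24Two.Syl.syl
  obtain ⟨y, hy, hy1, -, hyS, hyc⟩ := exists_central h ht S
  have hz : KFacts.M24Two.CentZ.z ∈ 𝒜 := by
    rcases hZ y hyS hyc with h1 | h1
    · exact absurd h1 hy1
    · rwa [← h1]
  obtain ⟨a, ha⟩ := KFacts.M24Two.CentZ.conj_z
  obtain ⟨b, hb⟩ := KFacts.M24Two.Count.conj_z_of_fix hu hu1 hp
  have h2 : u = (b⁻¹ * a) * KFacts.M24Two.CentZ.z * (b⁻¹ * a)⁻¹ := by
    calc u = b⁻¹ * (b * u * b⁻¹) * b := by group
      _ = b⁻¹ * (a * KFacts.M24Two.CentZ.z * a⁻¹) * b := by rw [hb, ha]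
      _ = _ := by group
  rw [h2]
  exact h.conj_mem _ hz _

theorem cr : CR M24 := by
  obtain ⟨O, hO⟩ : ∃ O, O ∈ octads := by
    by_contra hcon
    push Not at hcon
    have h1 : octads = ∅ := Set.eq_empty_iff_forall_notMem.2 hcon
    have h2 := Cfsg.Agent.S0360.result
    rw [h1] at h2
    simp at h2
  obtain ⟨p, hp⟩ := exists_not_mem hO
  obtain ⟨h1, h2, ⟨e⟩⟩ := Cfsg.Agent.S1554.result O hO p hp
  intro 𝒜 h
  by_cases ht : Triv 𝒜
  · exact Or.inl ht
  right
  set H : Subgroup M24 := MulAction.stabilizer (↥M24) O with hH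
  set K : Subgroup M24 := (fixOct O).subgroupOf M24 with hK
  set L : Subgroup M24 :=
    (M24 ⊓ MulAction.stabilizer (Equiv.Perm GolayPt) O ⊓ MulAction.stabilizer (Equiv.Perm GolayPt) p).subgroupOf M24
    with hL
  have hLM : M24 ⊓ MulAction.stabilizer (Equiv.Perm GolayPt) O ⊓ MulAction.stabilizer (Equiv.Perm GolayPt) p ≤ M24 :=
    inf_le_left.trans inf_le_left
  have eL : L ≃* alternatingGroup (Fin 8) := (subgroupOfEquivOfLe hLM).trans e
  have hCL : CR L := (cr_of_closedRow (Cfsg.Agent.ClosedTwo.Alt.closedRow (α := Fin 8))).of_equiv eL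
  have hmemH : ∀ g : M24, g ∈ H ↔ (g : Equiv.Perm GolayPt) • O = O := fun g => Iff.rfl
  have hKH : K ≤ H := by
    intro x hx
    rw [hK, mem_subgroupOf, mem_fixOct] at hx
    rw [hmemH]
    apply Finset.eq_of_subset_of_card_le
    · intro y hy
      obtain ⟨w, hw, rfl⟩ := Finset.mem_smul_finset.1 hy
      have : (x : Equiv.Perm GolayPt) • w = w := hx.2 w hw
      rwa [this]
    · rw [Finset.card_smul_finset]
  have hLH : L ≤ H := by
    intro x hx
    rw [hL, mem_subgroupOf, mem_inf, mem_inf] at hx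
    rw [hmemH]
    exact hx.1.2
  have hKA : ∀ x ∈ K, x ∈ 𝒜 := by
    intro x hx
    rw [hK, mem_subgroupOf] at hx
    obtain ⟨q, hq⟩ : O.Nonempty := by
      rw [← Finset.card_pos, GolayBase.octad_card hO]; norm_num
    refine mem_of_fix h ht (Subtype.ext (fixOct_sq hO hx)) (p := q) ?_
    exact (mem_fixOct.1 hx).2 q hq
  have hLA : ∀ x ∈ L, TwoEl x → x ∈ 𝒜 := by
    -- an involution of `L`
    obtain ⟨a, ha, ha1⟩ : ∃ a : alternatingGroup (Fin 8), a * a = 1 ∧ a ≠ 1 := by
      refine ⟨⟨Equiv.swap (0 : Fin 8) 1 * Equiv.swap (2 : Fin 8) 3, ?_⟩, ?_, ?_⟩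
      · rw [Equiv.Perm.mem_alternatingGroup]
        decide +kernel
      · apply Subtype.ext
        show Equiv.swap (0 : Fin 8) 1 * Equiv.swap (2 : Fin 8) 3 * (Equiv.swap (0 : Fin 8) 1 * Equiv.swap (2 : Fin 8) 3) = (1 : Equiv.Perm (Fin 8))
        decide +kernel
      · intro h3
        have h4 : Equiv.swap (0 : Fin 8) 1 * Equiv.swap (2 : Fin 8) 3 = (1 : Equiv.Perm (Fin 8)) := congrArg Subtype.val h3
        revert h4
        decide +kernel
    set b : L := eL.symm a with hb
    have hbb : (b : M24) * b = 1 := by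
      have : b * b = 1 := by rw [hb, ← map_mul, ha, map_one]
      exact congrArg Subtype.val this
    have hb1 : b ≠ 1 := by
      intro hb1
      apply ha1
      have := congrArg eL hb1
      rwa [hb, eL.apply_symm_apply, map_one] at this
    have hbp : (b : M24) • p = p := by
      have h3 : ((b : M24) : Equiv.Perm GolayPt) ∈ M24 ⊓ MulAction.stabilizer (Equiv.Perm GolayPt) O ⊓
        MulAction.stabilizer (Equiv.Perm GolayPt) p := mem_subgroupOf.1 b.2
      exact MulAction.mem_stabilizer_iff.1 h3.2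
    have hbA : (b : M24) ∈ 𝒜 := mem_of_fix h ht hbb hbp
    rcases hCL _ (h.restrict L) with h3 | h3
    · exact absurd (h3 b hbA) hb1
    · intro x hx hx2
      exact h3 ⟨x, hx⟩ (twoEl_coe.1 hx2)
  refine full_of_odd h (H := H) (by rw [index_stab hO]; norm_num) ?_
  refine mem_of_split h hKH hLH ?_ ?_ ?_ ?_ hKA hLA
  · intro g hg k hk
    rw [hK, mem_subgroupOf] at hk ⊢
    have h3 := (conj_mem_fixOct (o := O) (k := (g : Equiv.Perm GolayPt)) (g := (k : Equiv.Perm GolayPt)) g.2).2 hk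
    rw [(hmemH g).1 hg] at h3
    exact h3
  · intro x
    refine ⟨1, ?_⟩
    have hx : ((x : M24) : Equiv.Perm GolayPt) ∈ fixOct O := mem_subgroupOf.1 x.2
    apply Subtype.ext
    apply Subtype.ext
    have := fixOct_sq hO hx
    rw [pow_one, pow_two]
    exact this
  · intro x hxK hxL
    have h3 : (x : Equiv.Perm GolayPt) ∈ (⊥ : Subgroup (Equiv.Perm GolayPt)) := by
      rw [← h1]
      exact ⟨mem_subgroupOf.1 hxK, mem_subgroupOf.1 hxL⟩
    exact Subtype.ext (mem_bot.1 h3)
  · intro x hx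
    have h3 : (x : Equiv.Perm GolayPt) ∈ M24 ⊓ MulAction.stabilizer (Equiv.Perm GolayPt) O :=
      ⟨x.2, (hmemH x).1 hx⟩
    rw [← h2] at h3
    have hn : M24 ⊓ MulAction.stabilizer (Equiv.Perm GolayPt) O ⊓ MulAction.stabilizer (Equiv.Perm GolayPt) p ≤
        normalizer (fixOct O : Set (Equiv.Perm GolayPt)) := by
      intro g hg
      rw [mem_inf, mem_inf] at hg
      rw [mem_normalizer_iff]
      intro k
      have h4 := conj_mem_fixOct (o := O) (k := g) (g := k) hg.1.1
      rw [MulAction.mem_stabilizer_iff.1 hg.1.2] at h4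
      exact h4.symm
    rw [← SetLike.mem_coe, coe_mul_of_right_le_normalizer_left _ _ hn] at h3
    obtain ⟨k, hk, l, hl, hkl⟩ := Set.mem_mul.1 h3
    exact ⟨⟨k, (mem_fixOct.1 hk).1⟩, mem_subgroupOf.2 hk, ⟨l, hLM hl⟩, mem_subgroupOf.2 hl, Subtype.ext hkl.symm⟩

theorem closed24 (S : Sylow 2 M24) (A : Subgroup M24)
    (hA : IsStronglyClosed A (S : Subgroup M24)) : A = ⊥ ∨ A = (S : Subgroup M24) :=
  cr.closedRow S A hA

end Cfsg.Agent.H868.ClosedM24
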